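import Mathlib

/-!
# Irreducible components and flat maps of finite presentation
-/

set_option autoImplicit false
set_option linter.style.haveILetI false
universe u

open CategoryTheory AlgebraicGeometry TopologicalSpace

namespace Groth.Agent.H23Comp

/-- Points without proper generalizations. -/
def maxPts (α : Type u) [TopologicalSpace α] : Set α := {x | ∀ y, y ⤳ x → y = x}

theorem genericPoints_eq (α : Type u) [TopologicalSpace α] [T0Space α] [QuasiSober α] :
    genericPoints α = maxPts α := by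
  ext x
  constructor
  · intro hx y hy
    have h1 : closure {x} ⊆ closure {y} := hy.closure_subset
    have h2 : closure {y} ⊆ closure {x} := hx.2 isIrreducible_singleton.closure h1
    exact (Specializes.antisymm hy (specializes_iff_closure_subset.mpr h2)).eq
  · intro hx
    obtain ⟨Z, hZ, hxZ⟩ := exists_mem_irreducibleComponents_subset_of_isIrreducible
      (closure {x}) isIrreducible_singleton.closure
    have hgen : IsGenericPoint hZ.1.genericPoint Z :=
      hZ.1.isGenericPoint_genericPoint (isClosed_of_mem_irreducibleComponents Z hZ)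
    have h := hx _ (hgen.specializes (hxZ (subset_closure rfl)))
    show closure {x} ∈ irreducibleComponents α
    rw [← h, hgen.def]
    exact hZ

theorem finite_iff (α : Type u) [TopologicalSpace α] [T0Space α] [QuasiSober α] :
    (irreducibleComponents α).Finite ↔ (maxPts α).Finite := by
  rw [← genericPoints_eq, ← Set.finite_coe_iff, ← Set.finite_coe_iff]
  exact genericPoints.equiv.finite_iff.symm

theorem maxPts_inter {α : Type u} [TopologicalSpace α] (s : Set α) (hs : IsOpen s) :
    Subtype.val '' maxPts s = maxPts α ∩ s := by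
  ext x
  constructor
  · rintro ⟨⟨x, hxs⟩, hx, rfl⟩
    refine ⟨fun y hy => ?_, hxs⟩
    exact congrArg Subtype.val (hx ⟨y, hy.mem_open hs hxs⟩ (Topology.IsInducing.subtypeVal.specializes_iff.mp hy))
  · rintro ⟨hx, hxs⟩
    exact ⟨⟨x, hxs⟩, fun y hy => Subtype.ext (hx y.1 (Topology.IsInducing.subtypeVal.specializes_iff.mpr hy)), rfl⟩

theorem finite_opens_iff {X : Scheme.{u}} (U : X.Opens) :
    (irreducibleComponents (U : Type u)).Finite ↔ (maxPts X ∩ (U : Set X)).Finite := by
  haveI : T0Space (U : Set X) := inferInstance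
  haveI : QuasiSober (U : Set X) := U.2.isOpenEmbedding_subtypeVal.quasiSober
  rw [← maxPts_inter (U : Set X) U.2, Set.finite_image_iff Subtype.val_injective.injOn]
  exact finite_iff (U : Set X)

theorem maxPts_spec (R : CommRingCat.{u}) :
    maxPts (PrimeSpectrum R) = {x : PrimeSpectrum R | x.asIdeal ∈ minimalPrimes R} := by
  ext x
  constructor
  · intro hx
    refine ⟨⟨x.2, bot_le⟩, fun p hp hle => ?_⟩
    have := hx ⟨p, hp.1⟩ ((PrimeSpectrum.le_iff_specializes _ _).mp hle)
    exact (congrArg PrimeSpectrum.asIdeal this).ge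
  · intro hx y hy
    have hle := (PrimeSpectrum.le_iff_specializes _ _).mpr hy
    exact le_antisymm hle (hx.2 ⟨y.2, bot_le⟩ hle)

open scoped Classical in
theorem finite_minimalPrimes (R S : Type u) [CommRing R] [CommRing S] [Algebra R S]
    [Algebra.FiniteType R S] [Module.Flat R S] (h : (minimalPrimes R).Finite) :
    (minimalPrimes S).Finite := by
  refine Set.Finite.of_finite_fibers (fun q => q.comap (algebraMap R S)) (h.subset ?_) ?_
  · rintro _ ⟨q, hq, rfl⟩
    haveI := hq.1.1
    refine ⟨⟨Ideal.comap_isPrime _ q, bot_le⟩, fun p hp hle => ?_⟩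
    haveI := hp.1
    haveI : q.LiesOver (q.comap (algebraMap R S)) := ⟨rfl⟩
    obtain ⟨q', hle', hq', hover⟩ :=
      Ideal.exists_ideal_le_liesOver_of_le (S := S) (p := p) (q := q.comap (algebraMap R S)) q hle
    rw [hover.over, le_antisymm hle' (hq.2 ⟨hq', bot_le⟩ hle')]
  · rintro _ ⟨q₀, hq₀, rfl⟩
    set p := q₀.comap (algebraMap R S) with hp
    haveI := hq₀.1.1
    haveI : p.IsPrime := Ideal.comap_isPrime _ _
    haveI : IsNoetherianRing (p.Fiber S) :=
      Algebra.FiniteType.isNoetherianRing p.ResidueField (p.Fiber S)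
    have hfin := minimalPrimes.finite_of_isNoetherianRing (R := p.Fiber S)
    let ι := PrimeSpectrum.primesOverOrderIsoFiber R S p
    refine Set.Finite.of_finite_image (f := fun q : Ideal S => if hq : q ∈ p.primesOver S
      then (ι ⟨q, hq⟩).asIdeal else ⊥) (hfin.subset ?_) ?_
    · rintro _ ⟨q, ⟨hq, hqp⟩, rfl⟩
      have hmem : q ∈ p.primesOver S := ⟨hq.1.1, ⟨hqp.symm⟩⟩
      simp only [dif_pos hmem]
      refine ⟨⟨(ι ⟨q, hmem⟩).2, bot_le⟩, fun P hP hle => ?_⟩
      obtain ⟨q', hq'⟩ := ι.surjective ⟨P, hP.1⟩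
      have hP' : (ι q').asIdeal = P := congrArg PrimeSpectrum.asIdeal hq'
      rw [← hP'] at hle ⊢
      have h1 : q' ≤ (⟨q, hmem⟩ : p.primesOver S) := ι.le_iff_le.mp hle
      have h2 : q ≤ q'.1 := hq.2 ⟨q'.2.1, bot_le⟩ h1
      exact ι.le_iff_le.mpr h2
    · rintro q ⟨hq, hqp⟩ q' ⟨hq', hqp'⟩ heq
      have hmem : q ∈ p.primesOver S := ⟨hq.1.1, ⟨hqp.symm⟩⟩
      have hmem' : q' ∈ p.primesOver S := ⟨hq'.1.1, ⟨hqp'.symm⟩⟩
      simp only [dif_pos hmem, dif_pos hmem'] at heq
      exact congrArg Subtype.val (ι.injective (PrimeSpectrum.ext heq))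

theorem finite_affine_iff {X : Scheme.{u}} {U : X.Opens} (hU : IsAffineOpen U) :
    (maxPts X ∩ (U : Set X)).Finite ↔ (minimalPrimes Γ(X, U)).Finite := by
  have h1 : maxPts X ∩ (U : Set X) = hU.fromSpec '' maxPts (PrimeSpectrum Γ(X, U)) := by
    rw [← hU.range_fromSpec]
    ext x
    constructor
    · rintro ⟨hx, z, rfl⟩
      exact ⟨z, fun y hy => hU.fromSpec.isOpenEmbedding.injective
        (hx _ (hy.map hU.fromSpec.continuous)), rfl⟩
    · rintro ⟨z, hz, rfl⟩
      refine ⟨fun y hy => ?_, z, rfl⟩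
      obtain ⟨y', rfl⟩ := hy.mem_open hU.fromSpec.isOpenEmbedding.isOpen_range ⟨z, rfl⟩
      exact congrArg _ (hz y' (hU.fromSpec.isOpenEmbedding.isInducing.specializes_iff.mp hy))
  rw [h1]
  refine (Set.finite_image_iff hU.fromSpec.isOpenEmbedding.injective.injOn).trans ?_
  rw [maxPts_spec]
  constructor
  · intro h
    refine (h.image PrimeSpectrum.asIdeal).subset fun p hp => ?_
    exact ⟨⟨p, hp.1.1⟩, hp, rfl⟩
  · intro h
    exact h.preimage (f := PrimeSpectrum.asIdeal) (fun a _ b _ h => PrimeSpectrum.ext h)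

theorem finite_of_flat {Y X : Scheme.{u}} (f : Y ⟶ X) [Flat f] [LocallyOfFinitePresentation f]
    (hX : ∀ U : X.Opens, IsCompact (U : Set X) → (irreducibleComponents (U : Type u)).Finite)
    (V : Y.Opens) (hV : IsCompact (V : Set Y)) : (irreducibleComponents (V : Type u)).Finite := by
  rw [finite_opens_iff]
  have hloc : ∀ y ∈ V, ∃ W : Y.Opens, y ∈ W ∧ (maxPts Y ∩ (W : Set Y)).Finite := by
    intro y _
    obtain ⟨U, hU, hyU, -⟩ := (Opens.isBasis_iff_nbhd.mp X.isBasis_affineOpens)
      (show f.base y ∈ (⊤ : X.Opens) from trivial)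
    obtain ⟨W, hW, hyW, hWU⟩ := (Opens.isBasis_iff_nbhd.mp Y.isBasis_affineOpens)
      (show y ∈ f ⁻¹ᵁ U from hyU)
    refine ⟨W, hyW, (finite_affine_iff hW).mpr ?_⟩
    algebraize [(f.appLE U W hWU).hom]
    have h1 : RingHom.Flat (f.appLE U W hWU).hom := f.flat_appLE hU hW hWU
    have h2 : RingHom.FiniteType (f.appLE U W hWU).hom :=
      RingHom.FiniteType.of_finitePresentation (f.finitePresentation_appLE hU hW hWU)
    haveI : Module.Flat Γ(X, U) Γ(Y, W) := h1
    haveI : Algebra.FiniteType Γ(X, U) Γ(Y, W) := h2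
    exact finite_minimalPrimes Γ(X, U) Γ(Y, W)
      ((finite_affine_iff hU).mp ((finite_opens_iff U).mp (hX U hU.isCompact)))
  choose W hW hfin using hloc
  obtain ⟨t, ht⟩ := hV.elim_finite_subcover (fun y : V => (W y.1 y.2 : Set Y))
    (fun y => (W y.1 y.2).2) (fun y hy => Set.mem_iUnion.mpr ⟨⟨y, hy⟩, hW y hy⟩)
  refine (t.finite_toSet.biUnion fun y _ => hfin y.1 y.2).subset ?_
  rintro y ⟨hy, hyV⟩
  obtain ⟨i, hi, hyi⟩ := Set.mem_iUnion₂.mp (ht hyV)
  exact Set.mem_iUnion₂.mpr ⟨i, hi, hy, hyi⟩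

end Groth.Agent.H23Comp
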